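import Mathlib.AlgebraicGeometry.Morphisms.Etale
import Mathlib.AlgebraicGeometry.Morphisms.Finite
import Mathlib.RingTheory.Flat.FaithfullyFlat.Algebra
import Mathlib.RingTheory.QuasiFinite.Basic

/-!
# Finite etale faithfully flat ring maps and schemes; semilocal rings
-/

set_option autoImplicit false

universe u

open AlgebraicGeometry CategoryTheory

namespace Groth.Agent.RedSub.H161.FinEt

variable (R R' : Type u) [CommRing R] [CommRing R'] [Algebra R R']

theorem isFinite_specMap [Module.Finite R R'] :
    IsFinite (Spec.map (CommRingCat.ofHom (algebraMap R R'))) := by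
  rw [IsFinite.SpecMap_iff]
  exact RingHom.finite_algebraMap.2 inferInstance

theorem etale_specMap [Algebra.Etale R R'] :
    Etale (Spec.map (CommRingCat.ofHom (algebraMap R R'))) :=
  HasRingHomProperty.Spec_iff.mpr (RingHom.etale_algebraMap.2 inferInstance)

theorem surjective_specMap [Module.FaithfullyFlat R R'] :
    Surjective (Spec.map (CommRingCat.ofHom (algebraMap R R'))) :=
  ⟨PrimeSpectrum.comap_surjective_of_faithfullyFlat⟩

/-- A finite etale faithfully flat algebra gives a finite etale surjective morphism. -/
theorem specMap_finite_etale_surjective [Module.Finite R R'] [Algebra.Etale R R']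
    [Module.FaithfullyFlat R R'] :
    IsFinite (Spec.map (CommRingCat.ofHom (algebraMap R R'))) ∧
      Etale (Spec.map (CommRingCat.ofHom (algebraMap R R'))) ∧
      Surjective (Spec.map (CommRingCat.ofHom (algebraMap R R'))) :=
  ⟨isFinite_specMap R R', etale_specMap R R', surjective_specMap R R'⟩

/-- A finite algebra over a semilocal ring is semilocal. -/
theorem finite_maximal [Module.Finite R R'] (hR : {m : Ideal R | m.IsMaximal}.Finite) :
    {m : Ideal R' | m.IsMaximal}.Finite := by
  have hfib : ∀ p : Ideal R, p.IsMaximal → (p.primesOver R').Finite := fun p _ =>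
    Algebra.QuasiFinite.finite_primesOver p
  refine ((hR.biUnion (t := fun p => p.primesOver R') (fun p hp => hfib p hp))).subset ?_
  intro m (hm : m.IsMaximal)
  have : m.IsPrime := hm.isPrime
  rw [Set.mem_iUnion₂]
  exact ⟨m.under R, Ideal.isMaximal_comap_of_isIntegral_of_isMaximal m, ⟨this, ⟨rfl⟩⟩⟩

end Groth.Agent.RedSub.H161.FinEt
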