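import Groth.Agent.Sga3B.BorSpan613
import Groth.Agent.Sga3B.AlgBc2
import Groth.Agent.S2962
import Groth.Prelude.Def_Red2
import Mathlib.GroupTheory.FiniteAbelian.Basic

/-!
# The roots of a semisimple group of type `Q` generate a subgroup of finite index
-/

set_option autoImplicit false
open CategoryTheory MonoidalCategory CartesianMonoidalCategory MonObj GrpObj AlgebraicGeometry
universe u

namespace Groth.Agent.RedSub.H161.RootSpan

open Groth.Agent.Sga3B

/-- From a multiplier for each element to a uniform multiplier. -/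
theorem exists_uniform {M : Type*} [AddCommGroup M] [Module.Finite ℤ M] (N : Submodule ℤ M)
    (h : ∀ m : M, ∃ n : ℤ, n ≠ 0 ∧ n • m ∈ N) :
    ∃ d : ℕ, d ≠ 0 ∧ ∀ m : M, d • m ∈ N := by
  have ht : Module.IsTorsion ℤ (M ⧸ N) := by
    intro x
    obtain ⟨m, rfl⟩ := N.mkQ_surjective x
    obtain ⟨n, hn, hm⟩ := h m
    refine ⟨⟨n, mem_nonZeroDivisors_of_ne_zero hn⟩, ?_⟩
    change n • N.mkQ m = 0
    rw [← map_smul, Submodule.mkQ_apply, Submodule.Quotient.mk_eq_zero]
    exact hm
  have hf : Finite (M ⧸ N) := Module.finite_of_fg_torsion _ ht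
  refine ⟨Nat.card (M ⧸ N), Nat.card_pos.ne', fun m => ?_⟩
  rw [← Submodule.Quotient.mk_eq_zero, ← Submodule.mkQ_apply, map_nsmul]
  exact card_nsmul_eq_zero'

/-- The roots of a split semisimple group span the characters up to finite index. -/
theorem span_of_isSemisimple {S : Scheme.{u}} [Nonempty S] {G : Over S} [GrpObj G] (D : Red.SplitRed G)
    (hG : Red.IsSemisimple G) :
    ∃ d : ℕ, d ≠ 0 ∧ ∀ m : D.M, d • m ∈ Submodule.span ℤ (Set.range D.P.root) :=
  exists_uniform _ (BorSpan613.exists_zsmul_mem_span D hG (fun X t ht h => by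
    have := (Groth.Agent.S2962.result D X (t ≫ D.i)).mpr ⟨t, rfl, ht⟩ X (𝟙 X) h
    rwa [Category.id_comp] at this))

/-- A semisimple group of type `Q` over a nonempty base: the roots of `Q` generate a subgroup of finite index. -/
theorem span_of_isSplitOfType {S : Scheme.{u}} [Nonempty S] {G : Over S} [GrpObj G]
    (hG : Red.IsSemisimple G) {idx M₀ N₀ : Type} [AddCommGroup M₀] [AddCommGroup N₀]
    (Q : RootPairing idx ℤ M₀ N₀) (hQ : Red.IsSplitOfType Q G) :
    ∃ d : ℕ, d ≠ 0 ∧ ∀ m : M₀, d • m ∈ AddSubgroup.closure (Set.range Q.root) := by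
  obtain ⟨D, ⟨e⟩⟩ := hQ
  obtain ⟨d, hd, hd'⟩ := span_of_isSemisimple D hG
  refine ⟨d, hd, fun m => ?_⟩
  obtain ⟨m, rfl⟩ := e.bijective_weightMap.2 m
  rw [← Submodule.span_int_eq_addSubgroupClosure, Submodule.mem_toAddSubgroup, ← map_nsmul]
  have h1 : e.weightMap (d • m) ∈ (Submodule.span ℤ (Set.range D.P.root)).map e.weightMap :=
    Submodule.mem_map_of_mem (hd' m)
  rw [Submodule.map_span] at h1
  refine Submodule.span_mono ?_ h1
  rintro _ ⟨_, ⟨i, rfl⟩, rfl⟩
  exact ⟨e.indexEquiv i, (RootPairing.Hom.root_weightMap_apply D.P Q i e.toHom).symm⟩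

/-- Over an algebraically closed field: the roots of the type of a semisimple group generate a subgroup of
finite index. -/
theorem span_of_isSemisimpleOver (K : Type u) [Field K] [IsAlgClosed K]
    {G : Over (Spec (CommRingCat.of K))} [GrpObj G] (hG : Red.IsSemisimpleOver K G)
    {idx M₀ N₀ : Type} [AddCommGroup M₀] [AddCommGroup N₀]
    (Q : RootPairing idx ℤ M₀ N₀) (hQ : Red.IsSplitOfType Q G) :
    ∃ d : ℕ, d ≠ 0 ∧ ∀ m : M₀, d • m ∈ AddSubgroup.closure (Set.range Q.root) :=
  have : Nonempty (Spec (CommRingCat.of K)) := inferInstanceAs (Nonempty (PrimeSpectrum K))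
  span_of_isSplitOfType (AlgBc.isSemisimple_iff.2 hG) Q hQ

end Groth.Agent.RedSub.H161.RootSpan
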