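import Mathlib.Algebra.Group.End
import Mathlib.Algebra.Group.Subgroup.Lattice
import Mathlib.LinearAlgebra.FreeModule.Basic
import Mathlib.Algebra.Module.Torsion.Free

/-!
# The stabilizer of a finite set of characters generating a subgroup of finite index is finite
-/

set_option autoImplicit false

namespace Groth.Agent.RedSub.H161.StabFin

variable {M : Type*} [AddCommGroup M]

/-- The automorphisms of `M` preserving a subset `Φ`. -/
def stab (Φ : Set M) : Subgroup (MulAut (Multiplicative M)) where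
  carrier := {γ | ∀ m : M, Multiplicative.toAdd (γ (Multiplicative.ofAdd m)) ∈ Φ ↔ m ∈ Φ}
  one_mem' := fun m => Iff.rfl
  mul_mem' := by
    intro γ δ hγ hδ m
    have h1 := hγ (Multiplicative.toAdd (δ (Multiplicative.ofAdd m)))
    exact h1.trans (hδ m)
  inv_mem' := by
    intro γ hγ m
    have h1 := hγ (Multiplicative.toAdd (γ⁻¹ (Multiplicative.ofAdd m)))
    have h2 : γ (Multiplicative.ofAdd (Multiplicative.toAdd (γ⁻¹ (Multiplicative.ofAdd m)))) =
        Multiplicative.ofAdd m := by
      rw [ofAdd_toAdd]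
      exact MulAut.apply_inv_self _ γ _
    rw [h2] at h1
    exact h1.symm

theorem mem_stab_iff {Φ : Set M} {γ : MulAut (Multiplicative M)} :
    γ ∈ stab Φ ↔ ∀ m : M, Multiplicative.toAdd (γ (Multiplicative.ofAdd m)) ∈ Φ ↔ m ∈ Φ := Iff.rfl

/-- Two automorphisms agreeing on `Φ` are equal, when `Φ` generates a subgroup of finite index. -/
theorem eq_of_eqOn [Module.Free ℤ M] {Φ : Set M}
    (hspan : ∃ d : ℕ, d ≠ 0 ∧ ∀ m : M, d • m ∈ AddSubgroup.closure Φ)
    {f g : M →+ M} (h : Set.EqOn f g Φ) : f = g := by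
  obtain ⟨d, hd, hd'⟩ := hspan
  ext m
  have h1 : f (d • m) = g (d • m) := by
    have h2 : Set.EqOn f g (AddSubgroup.closure Φ) := AddMonoidHom.eqOn_closure h
    exact h2 (hd' m)
  rw [map_nsmul, map_nsmul] at h1
  have h3 : ((d : ℤ)) • f m = (d : ℤ) • g m := by
    rw [natCast_zsmul, natCast_zsmul]; exact h1
  exact smul_right_injective M (by exact_mod_cast hd : (d : ℤ) ≠ 0) h3

theorem finite_stab [Module.Free ℤ M] {Φ : Set M} (hΦ : Φ.Finite)
    (hspan : ∃ d : ℕ, d ≠ 0 ∧ ∀ m : M, d • m ∈ AddSubgroup.closure Φ) : Finite (stab Φ) := by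
  classical
  have : Finite Φ := hΦ.to_subtype
  refine Finite.of_injective
    (fun γ : stab Φ => fun a : Φ => (⟨Multiplicative.toAdd (γ.1 (Multiplicative.ofAdd (a : M))),
      (γ.2 a).2 a.2⟩ : Φ)) ?_
  intro γ δ h
  apply Subtype.ext
  have h1 : AddMonoidHom.toMultiplicative.symm (MulEquiv.toMonoidHom γ.1) =
      AddMonoidHom.toMultiplicative.symm (MulEquiv.toMonoidHom δ.1) :=
    eq_of_eqOn hspan fun a ha => congrArg Subtype.val (congrFun h ⟨a, ha⟩)
  exact MulEquiv.toMonoidHom_injective (AddMonoidHom.toMultiplicative.symm.injective h1)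

end Groth.Agent.RedSub.H161.StabFin
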